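import Cfsg.Agent.Lib.Fi24Recog91.Defs

/-! The checks at the points, part 0. -/

set_option autoImplicit false
set_option maxRecDepth 20000
set_option Elab.async false

namespace Cfsg.Agent.Lib.Fi24Recog91

open Cfsg.Agent.Lib.CosetEnum (allFrom allFrom_iff)

theorem pt0_part0 : allFrom 0 4263 pointOK = true := by decide +kernel

theorem pt0_part1 : allFrom 4263 4263 pointOK = true := by decide +kernel

theorem pt0_part2 : allFrom 8526 4263 pointOK = true := by decide +kernel

theorem pt0_part3 : allFrom 12789 4263 pointOK = true := by decide +kernel

theorem pt0_part4 : allFrom 17052 4263 pointOK = true := by decide +kernel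

theorem pt0_part5 : allFrom 21315 4263 pointOK = true := by decide +kernel

theorem pt0_part6 : allFrom 25578 4263 pointOK = true := by decide +kernel

theorem pt0_part7 : allFrom 29841 4263 pointOK = true := by decide +kernel

theorem pt0_part8 : allFrom 34104 4263 pointOK = true := by decide +kernel

theorem pt0_part9 : allFrom 38367 4263 pointOK = true := by decide +kernel

theorem pt0_part10 : allFrom 42630 4263 pointOK = true := by decide +kernel

theorem pt0_part11 : allFrom 46893 4263 pointOK = true := by decide +kernel

/-- The points checked in this file. -/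
theorem pt0_range : ∀ i, 0 ≤ i → i < 51156 → pointOK i = true := by
  intro i h1 h2
  by_cases h : i < 4263
  · exact allFrom_iff.1 pt0_part0 i (by omega) (by omega)
  by_cases h : i < 8526
  · exact allFrom_iff.1 pt0_part1 i (by omega) (by omega)
  by_cases h : i < 12789
  · exact allFrom_iff.1 pt0_part2 i (by omega) (by omega)
  by_cases h : i < 17052
  · exact allFrom_iff.1 pt0_part3 i (by omega) (by omega)
  by_cases h : i < 21315
  · exact allFrom_iff.1 pt0_part4 i (by omega) (by omega)
  by_cases h : i < 25578
  · exact allFrom_iff.1 pt0_part5 i (by omega) (by omega)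
  by_cases h : i < 29841
  · exact allFrom_iff.1 pt0_part6 i (by omega) (by omega)
  by_cases h : i < 34104
  · exact allFrom_iff.1 pt0_part7 i (by omega) (by omega)
  by_cases h : i < 38367
  · exact allFrom_iff.1 pt0_part8 i (by omega) (by omega)
  by_cases h : i < 42630
  · exact allFrom_iff.1 pt0_part9 i (by omega) (by omega)
  by_cases h : i < 46893
  · exact allFrom_iff.1 pt0_part10 i (by omega) (by omega)
  exact allFrom_iff.1 pt0_part11 i (by omega) (by omega)

end Cfsg.Agent.Lib.Fi24Recog91
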