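import Cfsg.Agent.Lib.Fi24Recog91.Defs

/-! The checks at the points, part 1. -/

set_option autoImplicit false
set_option maxRecDepth 20000
set_option Elab.async false

namespace Cfsg.Agent.Lib.Fi24Recog91

open Cfsg.Agent.Lib.CosetEnum (allFrom allFrom_iff)

theorem pt1_part0 : allFrom 51156 4263 pointOK = true := by decide +kernel

theorem pt1_part1 : allFrom 55419 4263 pointOK = true := by decide +kernel

theorem pt1_part2 : allFrom 59682 4263 pointOK = true := by decide +kernel

theorem pt1_part3 : allFrom 63945 4263 pointOK = true := by decide +kernel

theorem pt1_part4 : allFrom 68208 4263 pointOK = true := by decide +kernel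

theorem pt1_part5 : allFrom 72471 4263 pointOK = true := by decide +kernel

theorem pt1_part6 : allFrom 76734 4263 pointOK = true := by decide +kernel

theorem pt1_part7 : allFrom 80997 4263 pointOK = true := by decide +kernel

theorem pt1_part8 : allFrom 85260 4263 pointOK = true := by decide +kernel

theorem pt1_part9 : allFrom 89523 4263 pointOK = true := by decide +kernel

theorem pt1_part10 : allFrom 93786 4263 pointOK = true := by decide +kernel

theorem pt1_part11 : allFrom 98049 4263 pointOK = true := by decide +kernel

/-- The points checked in this file. -/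
theorem pt1_range : ∀ i, 51156 ≤ i → i < 102312 → pointOK i = true := by
  intro i h1 h2
  by_cases h : i < 55419
  · exact allFrom_iff.1 pt1_part0 i (by omega) (by omega)
  by_cases h : i < 59682
  · exact allFrom_iff.1 pt1_part1 i (by omega) (by omega)
  by_cases h : i < 63945
  · exact allFrom_iff.1 pt1_part2 i (by omega) (by omega)
  by_cases h : i < 68208
  · exact allFrom_iff.1 pt1_part3 i (by omega) (by omega)
  by_cases h : i < 72471
  · exact allFrom_iff.1 pt1_part4 i (by omega) (by omega)
  by_cases h : i < 76734
  · exact allFrom_iff.1 pt1_part5 i (by omega) (by omega)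
  by_cases h : i < 80997
  · exact allFrom_iff.1 pt1_part6 i (by omega) (by omega)
  by_cases h : i < 85260
  · exact allFrom_iff.1 pt1_part7 i (by omega) (by omega)
  by_cases h : i < 89523
  · exact allFrom_iff.1 pt1_part8 i (by omega) (by omega)
  by_cases h : i < 93786
  · exact allFrom_iff.1 pt1_part9 i (by omega) (by omega)
  by_cases h : i < 98049
  · exact allFrom_iff.1 pt1_part10 i (by omega) (by omega)
  exact allFrom_iff.1 pt1_part11 i (by omega) (by omega)

end Cfsg.Agent.Lib.Fi24Recog91
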