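import Cfsg.Agent.Lib.Fi24Recog91.Defs

/-! The checks at the points, part 2. -/

set_option autoImplicit false
set_option maxRecDepth 20000
set_option Elab.async false

namespace Cfsg.Agent.Lib.Fi24Recog91

open Cfsg.Agent.Lib.CosetEnum (allFrom allFrom_iff)

theorem pt2_part0 : allFrom 102312 4263 pointOK = true := by decide +kernel

theorem pt2_part1 : allFrom 106575 4263 pointOK = true := by decide +kernel

theorem pt2_part2 : allFrom 110838 4263 pointOK = true := by decide +kernel

theorem pt2_part3 : allFrom 115101 4263 pointOK = true := by decide +kernel

theorem pt2_part4 : allFrom 119364 4263 pointOK = true := by decide +kernel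

theorem pt2_part5 : allFrom 123627 4263 pointOK = true := by decide +kernel

theorem pt2_part6 : allFrom 127890 4263 pointOK = true := by decide +kernel

theorem pt2_part7 : allFrom 132153 4263 pointOK = true := by decide +kernel

theorem pt2_part8 : allFrom 136416 4263 pointOK = true := by decide +kernel

theorem pt2_part9 : allFrom 140679 4263 pointOK = true := by decide +kernel

theorem pt2_part10 : allFrom 144942 4263 pointOK = true := by decide +kernel

theorem pt2_part11 : allFrom 149205 4263 pointOK = true := by decide +kernel

/-- The points checked in this file. -/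
theorem pt2_range : ∀ i, 102312 ≤ i → i < 153468 → pointOK i = true := by
  intro i h1 h2
  by_cases h : i < 106575
  · exact allFrom_iff.1 pt2_part0 i (by omega) (by omega)
  by_cases h : i < 110838
  · exact allFrom_iff.1 pt2_part1 i (by omega) (by omega)
  by_cases h : i < 115101
  · exact allFrom_iff.1 pt2_part2 i (by omega) (by omega)
  by_cases h : i < 119364
  · exact allFrom_iff.1 pt2_part3 i (by omega) (by omega)
  by_cases h : i < 123627
  · exact allFrom_iff.1 pt2_part4 i (by omega) (by omega)
  by_cases h : i < 127890
  · exact allFrom_iff.1 pt2_part5 i (by omega) (by omega)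
  by_cases h : i < 132153
  · exact allFrom_iff.1 pt2_part6 i (by omega) (by omega)
  by_cases h : i < 136416
  · exact allFrom_iff.1 pt2_part7 i (by omega) (by omega)
  by_cases h : i < 140679
  · exact allFrom_iff.1 pt2_part8 i (by omega) (by omega)
  by_cases h : i < 144942
  · exact allFrom_iff.1 pt2_part9 i (by omega) (by omega)
  by_cases h : i < 149205
  · exact allFrom_iff.1 pt2_part10 i (by omega) (by omega)
  exact allFrom_iff.1 pt2_part11 i (by omega) (by omega)

end Cfsg.Agent.Lib.Fi24Recog91
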