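import Cfsg.Agent.Lib.Fi24Recog91.Defs

/-! The checks at the points, part 3. -/

set_option autoImplicit false
set_option maxRecDepth 20000
set_option Elab.async false

namespace Cfsg.Agent.Lib.Fi24Recog91

open Cfsg.Agent.Lib.CosetEnum (allFrom allFrom_iff)

theorem pt3_part0 : allFrom 153468 4263 pointOK = true := by decide +kernel

theorem pt3_part1 : allFrom 157731 4263 pointOK = true := by decide +kernel

theorem pt3_part2 : allFrom 161994 4263 pointOK = true := by decide +kernel

theorem pt3_part3 : allFrom 166257 4263 pointOK = true := by decide +kernel

theorem pt3_part4 : allFrom 170520 4263 pointOK = true := by decide +kernel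

theorem pt3_part5 : allFrom 174783 4263 pointOK = true := by decide +kernel

theorem pt3_part6 : allFrom 179046 4263 pointOK = true := by decide +kernel

theorem pt3_part7 : allFrom 183309 4263 pointOK = true := by decide +kernel

theorem pt3_part8 : allFrom 187572 4263 pointOK = true := by decide +kernel

theorem pt3_part9 : allFrom 191835 4263 pointOK = true := by decide +kernel

theorem pt3_part10 : allFrom 196098 4263 pointOK = true := by decide +kernel

theorem pt3_part11 : allFrom 200361 4263 pointOK = true := by decide +kernel

/-- The points checked in this file. -/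
theorem pt3_range : ∀ i, 153468 ≤ i → i < 204624 → pointOK i = true := by
  intro i h1 h2
  by_cases h : i < 157731
  · exact allFrom_iff.1 pt3_part0 i (by omega) (by omega)
  by_cases h : i < 161994
  · exact allFrom_iff.1 pt3_part1 i (by omega) (by omega)
  by_cases h : i < 166257
  · exact allFrom_iff.1 pt3_part2 i (by omega) (by omega)
  by_cases h : i < 170520
  · exact allFrom_iff.1 pt3_part3 i (by omega) (by omega)
  by_cases h : i < 174783
  · exact allFrom_iff.1 pt3_part4 i (by omega) (by omega)
  by_cases h : i < 179046
  · exact allFrom_iff.1 pt3_part5 i (by omega) (by omega)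
  by_cases h : i < 183309
  · exact allFrom_iff.1 pt3_part6 i (by omega) (by omega)
  by_cases h : i < 187572
  · exact allFrom_iff.1 pt3_part7 i (by omega) (by omega)
  by_cases h : i < 191835
  · exact allFrom_iff.1 pt3_part8 i (by omega) (by omega)
  by_cases h : i < 196098
  · exact allFrom_iff.1 pt3_part9 i (by omega) (by omega)
  by_cases h : i < 200361
  · exact allFrom_iff.1 pt3_part10 i (by omega) (by omega)
  exact allFrom_iff.1 pt3_part11 i (by omega) (by omega)

end Cfsg.Agent.Lib.Fi24Recog91
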