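import Cfsg.Agent.Lib.Fi24Recog91.Defs

/-! The checks at the points, part 4. -/

set_option autoImplicit false
set_option maxRecDepth 20000
set_option Elab.async false

namespace Cfsg.Agent.Lib.Fi24Recog91

open Cfsg.Agent.Lib.CosetEnum (allFrom allFrom_iff)

theorem pt4_part0 : allFrom 204624 4263 pointOK = true := by decide +kernel

theorem pt4_part1 : allFrom 208887 4263 pointOK = true := by decide +kernel

theorem pt4_part2 : allFrom 213150 4263 pointOK = true := by decide +kernel

theorem pt4_part3 : allFrom 217413 4263 pointOK = true := by decide +kernel

theorem pt4_part4 : allFrom 221676 4263 pointOK = true := by decide +kernel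

theorem pt4_part5 : allFrom 225939 4263 pointOK = true := by decide +kernel

theorem pt4_part6 : allFrom 230202 4263 pointOK = true := by decide +kernel

theorem pt4_part7 : allFrom 234465 4263 pointOK = true := by decide +kernel

theorem pt4_part8 : allFrom 238728 4263 pointOK = true := by decide +kernel

theorem pt4_part9 : allFrom 242991 4263 pointOK = true := by decide +kernel

theorem pt4_part10 : allFrom 247254 4263 pointOK = true := by decide +kernel

theorem pt4_part11 : allFrom 251517 4263 pointOK = true := by decide +kernel

/-- The points checked in this file. -/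
theorem pt4_range : ∀ i, 204624 ≤ i → i < 255780 → pointOK i = true := by
  intro i h1 h2
  by_cases h : i < 208887
  · exact allFrom_iff.1 pt4_part0 i (by omega) (by omega)
  by_cases h : i < 213150
  · exact allFrom_iff.1 pt4_part1 i (by omega) (by omega)
  by_cases h : i < 217413
  · exact allFrom_iff.1 pt4_part2 i (by omega) (by omega)
  by_cases h : i < 221676
  · exact allFrom_iff.1 pt4_part3 i (by omega) (by omega)
  by_cases h : i < 225939
  · exact allFrom_iff.1 pt4_part4 i (by omega) (by omega)
  by_cases h : i < 230202
  · exact allFrom_iff.1 pt4_part5 i (by omega) (by omega)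
  by_cases h : i < 234465
  · exact allFrom_iff.1 pt4_part6 i (by omega) (by omega)
  by_cases h : i < 238728
  · exact allFrom_iff.1 pt4_part7 i (by omega) (by omega)
  by_cases h : i < 242991
  · exact allFrom_iff.1 pt4_part8 i (by omega) (by omega)
  by_cases h : i < 247254
  · exact allFrom_iff.1 pt4_part9 i (by omega) (by omega)
  by_cases h : i < 251517
  · exact allFrom_iff.1 pt4_part10 i (by omega) (by omega)
  exact allFrom_iff.1 pt4_part11 i (by omega) (by omega)

end Cfsg.Agent.Lib.Fi24Recog91
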