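import Cfsg.Agent.Lib.Fi24Recog91.Defs

/-! The checks at the points, part 5. -/

set_option autoImplicit false
set_option maxRecDepth 20000
set_option Elab.async false

namespace Cfsg.Agent.Lib.Fi24Recog91

open Cfsg.Agent.Lib.CosetEnum (allFrom allFrom_iff)

theorem pt5_part0 : allFrom 255780 4263 pointOK = true := by decide +kernel

theorem pt5_part1 : allFrom 260043 4263 pointOK = true := by decide +kernel

theorem pt5_part2 : allFrom 264306 4263 pointOK = true := by decide +kernel

theorem pt5_part3 : allFrom 268569 4263 pointOK = true := by decide +kernel

theorem pt5_part4 : allFrom 272832 4263 pointOK = true := by decide +kernel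

theorem pt5_part5 : allFrom 277095 4263 pointOK = true := by decide +kernel

theorem pt5_part6 : allFrom 281358 4263 pointOK = true := by decide +kernel

theorem pt5_part7 : allFrom 285621 4263 pointOK = true := by decide +kernel

theorem pt5_part8 : allFrom 289884 4263 pointOK = true := by decide +kernel

theorem pt5_part9 : allFrom 294147 4263 pointOK = true := by decide +kernel

theorem pt5_part10 : allFrom 298410 4263 pointOK = true := by decide +kernel

theorem pt5_part11 : allFrom 302673 4263 pointOK = true := by decide +kernel

/-- The points checked in this file. -/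
theorem pt5_range : ∀ i, 255780 ≤ i → i < 306936 → pointOK i = true := by
  intro i h1 h2
  by_cases h : i < 260043
  · exact allFrom_iff.1 pt5_part0 i (by omega) (by omega)
  by_cases h : i < 264306
  · exact allFrom_iff.1 pt5_part1 i (by omega) (by omega)
  by_cases h : i < 268569
  · exact allFrom_iff.1 pt5_part2 i (by omega) (by omega)
  by_cases h : i < 272832
  · exact allFrom_iff.1 pt5_part3 i (by omega) (by omega)
  by_cases h : i < 277095
  · exact allFrom_iff.1 pt5_part4 i (by omega) (by omega)
  by_cases h : i < 281358
  · exact allFrom_iff.1 pt5_part5 i (by omega) (by omega)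
  by_cases h : i < 285621
  · exact allFrom_iff.1 pt5_part6 i (by omega) (by omega)
  by_cases h : i < 289884
  · exact allFrom_iff.1 pt5_part7 i (by omega) (by omega)
  by_cases h : i < 294147
  · exact allFrom_iff.1 pt5_part8 i (by omega) (by omega)
  by_cases h : i < 298410
  · exact allFrom_iff.1 pt5_part9 i (by omega) (by omega)
  by_cases h : i < 302673
  · exact allFrom_iff.1 pt5_part10 i (by omega) (by omega)
  exact allFrom_iff.1 pt5_part11 i (by omega) (by omega)

end Cfsg.Agent.Lib.Fi24Recog91
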